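import Cfsg.Prelude.Def_Sz
import Mathlib

/-!
`Lie.Sz F e` as the fixed set of the exceptional endomorphism of `Sp₄` in characteristic 2, and
elements fixing a vector.
-/

set_option autoImplicit false

namespace Cfsg.Agent.Suzuki4

open Matrix Polynomial Cfsg.Lie

variable {F : Type*} [Field F]

/-- The matrix of the form `altForm4`. -/
def J : Matrix (Fin 4) (Fin 4) F := !![0, 0, 0, 1; 0, 0, 1, 0; 0, 1, 0, 0; 1, 0, 0, 0]

theorem J_mul_J : (J : Matrix (Fin 4) (Fin 4) F) * J = 1 := by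
  ext i j
  fin_cases i <;> fin_cases j <;> simp [J, Matrix.mul_apply, Fin.sum_univ_four]

theorem det_J_sq : (J : Matrix (Fin 4) (Fin 4) F).det * (J : Matrix (Fin 4) (Fin 4) F).det = 1 := by
  rw [← det_mul, J_mul_J, det_one]

theorem altForm4_eq (u v : Fin 4 → F) : altForm4 u v = u ⬝ᵥ (J *ᵥ v) := by
  simp [altForm4, J, dotProduct, mulVec, Fin.sum_univ_four]

theorem transpose_mul_J {g : GL (Fin 4) F} (hg : g ∈ Sp4 F) :
    ((g : Matrix (Fin 4) (Fin 4) F))ᵀ * J * (g : Matrix (Fin 4) (Fin 4) F) = J := by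
  ext i j
  have h := hg (Pi.single i 1) (Pi.single j 1)
  fin_cases i <;> fin_cases j <;>
    simp [altForm4, J, Matrix.mul_apply, Fin.sum_univ_four] at h ⊢ <;>
    linear_combination h

theorem inv_eq {g : GL (Fin 4) F} (hg : g ∈ Sp4 F) :
    ((g⁻¹ : GL (Fin 4) F) : Matrix (Fin 4) (Fin 4) F) =
      J * ((g : Matrix (Fin 4) (Fin 4) F))ᵀ * J := by
  rw [coe_units_inv]
  refine inv_eq_left_inv ?_
  rw [Matrix.mul_assoc, Matrix.mul_assoc, ← Matrix.mul_assoc _ᵀ, transpose_mul_J hg, J_mul_J]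

theorem mul_J_transpose {g : GL (Fin 4) F} (hg : g ∈ Sp4 F) :
    (g : Matrix (Fin 4) (Fin 4) F) * J * ((g : Matrix (Fin 4) (Fin 4) F))ᵀ = J := by
  set M : Matrix (Fin 4) (Fin 4) F := (g : Matrix (Fin 4) (Fin 4) F)
  have h : M * (J * Mᵀ * J) = 1 := by
    rw [← inv_eq hg]
    exact g.mul_inv
  have h2 := congrArg (· * J) h
  simpa [Matrix.mul_assoc, J_mul_J] using h2

theorem det_eq_one [CharP F 2] {g : GL (Fin 4) F} (hg : g ∈ Sp4 F) :
    ((g : Matrix (Fin 4) (Fin 4) F)).det = 1 := by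
  have h := congrArg Matrix.det (transpose_mul_J hg)
  rw [det_mul, det_mul, det_transpose] at h
  have h2 := det_J_sq (F := F)
  set d := ((g : Matrix (Fin 4) (Fin 4) F)).det
  have h3 : d ^ 2 = 1 := by
    linear_combination (J : Matrix (Fin 4) (Fin 4) F).det * h + (1 - d ^ 2) * h2
  have two : (2 : F) = 0 := CharTwo.two_eq_zero
  have : (d - 1) ^ 2 = 0 := by linear_combination h3 + (1 - d) * two
  exact sub_eq_zero.1 (pow_eq_zero_iff two_ne_zero |>.1 this)

/-- The condition cutting out the Suzuki group. -/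
def InSz (e : ℕ) (g : GL (Fin 4) F) : Prop :=
  g ∈ Sp4 F ∧
    star4 (g : Matrix (Fin 4) (Fin 4) F) = (g : Matrix (Fin 4) (Fin 4) F).map (fun x => x ^ e)

theorem star4_mul [CharP F 2] {g h : GL (Fin 4) F} (hg : g ∈ Sp4 F) (hh : h ∈ Sp4 F) :
    star4 ((g : Matrix (Fin 4) (Fin 4) F) * (h : Matrix (Fin 4) (Fin 4) F)) =
      star4 (g : Matrix (Fin 4) (Fin 4) F) * star4 (h : Matrix (Fin 4) (Fin 4) F) := by
  have two : (2 : F) = 0 := CharTwo.two_eq_zero
  have hG := mul_J_transpose hg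
  have hH := transpose_mul_J hh
  set G : Matrix (Fin 4) (Fin 4) F := (g : Matrix (Fin 4) (Fin 4) F)
  set H : Matrix (Fin 4) (Fin 4) F := (h : Matrix (Fin 4) (Fin 4) F)
  ext p r
  have e1 := congrFun (congrFun hG (pairOf p).1) (pairOf p).2
  have e2 := congrFun (congrFun hH (pairOf r).1) (pairOf r).2
  fin_cases p <;> fin_cases r <;>
    simp [J, star4, pairOf, Matrix.mul_apply, Fin.sum_univ_four] at e1 e2 ⊢
  all_goals grind

theorem map_mul_pow [CharP F 2] (k : ℕ) (G H : Matrix (Fin 4) (Fin 4) F) :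
    (G * H).map (fun x => x ^ (2 ^ k)) =
      G.map (fun x => x ^ (2 ^ k)) * H.map (fun x => x ^ (2 ^ k)) := by
  have : (fun x : F => x ^ (2 ^ k)) = ⇑(iterateFrobenius F 2 k) := rfl
  rw [this, Matrix.map_mul]

/-- The Suzuki group is the set of elements of `Sp₄` fixed by the exceptional endomorphism. -/
theorem inSz_of_mem [Fintype F] [CharP F 2] {k : ℕ} {g : GL (Fin 4) F}
    (hg : g ∈ Sz F (2 ^ k)) : InSz (2 ^ k) g := by
  have : Finite (GL (Fin 4) F) := Finite.of_injective _ Units.val_injective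
  have h1 : InSz (2 ^ k) (1 : GL (Fin 4) F) := by
    refine ⟨one_mem _, ?_⟩
    ext p r
    fin_cases p <;> fin_cases r <;> simp [star4, pairOf, Matrix.one_apply]
  have hmul : ∀ a b : GL (Fin 4) F, InSz (2 ^ k) a → InSz (2 ^ k) b → InSz (2 ^ k) (a * b) := by
    intro a b ha hb
    refine ⟨mul_mem ha.1 hb.1, ?_⟩
    rw [Units.val_mul, star4_mul ha.1 hb.1, ha.2, hb.2, map_mul_pow]
  induction hg using Subgroup.closure_induction with
  | mem x hx => exact hx
  | one => exact h1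
  | mul x y _ _ hx hy => exact hmul x y hx hy
  | inv x _ hx =>
    have hpow : ∀ n : ℕ, InSz (2 ^ k) (x ^ n) := fun n => by
      induction n with
      | zero => simpa using h1
      | succ n ih => rw [pow_succ]; exact hmul _ _ ih hx
    obtain ⟨n, hn⟩ : ∃ n : ℕ, x⁻¹ = x ^ n := ⟨orderOf x - 1, by
      rw [inv_eq_iff_mul_eq_one, ← pow_succ', Nat.sub_add_cancel (orderOf_pos x), pow_orderOf_eq_one]⟩
    rw [hn]
    exact hpow n

theorem det_four {R : Type*} [CommRing R] (A : Matrix (Fin 4) (Fin 4) R) :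
    A.det =
      A 0 0 * (A 1 1 * A 2 2 * A 3 3 - A 1 1 * A 2 3 * A 3 2 - A 1 2 * A 2 1 * A 3 3
        + A 1 2 * A 2 3 * A 3 1 + A 1 3 * A 2 1 * A 3 2 - A 1 3 * A 2 2 * A 3 1)
      - A 0 1 * (A 1 0 * A 2 2 * A 3 3 - A 1 0 * A 2 3 * A 3 2 - A 1 2 * A 2 0 * A 3 3
        + A 1 2 * A 2 3 * A 3 0 + A 1 3 * A 2 0 * A 3 2 - A 1 3 * A 2 2 * A 3 0)
      + A 0 2 * (A 1 0 * A 2 1 * A 3 3 - A 1 0 * A 2 3 * A 3 1 - A 1 1 * A 2 0 * A 3 3
        + A 1 1 * A 2 3 * A 3 0 + A 1 3 * A 2 0 * A 3 1 - A 1 3 * A 2 1 * A 3 0)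
      - A 0 3 * (A 1 0 * A 2 1 * A 3 2 - A 1 0 * A 2 2 * A 3 1 - A 1 1 * A 2 0 * A 3 2
        + A 1 1 * A 2 2 * A 3 0 + A 1 2 * A 2 0 * A 3 1 - A 1 2 * A 2 1 * A 3 0) := by
  rw [Matrix.det_succ_row_zero]
  simp [Fin.sum_univ_four, det_fin_three, Fin.succAbove]
  ring

theorem charpoly_four (M : Matrix (Fin 4) (Fin 4) F) :
    M.charpoly = X ^ 4 - C M.trace * X ^ 3
      + C ((M 0 0 * M 1 1 - M 1 0 * M 0 1) + (M 0 0 * M 2 2 - M 2 0 * M 0 2)
        + (M 0 0 * M 3 3 - M 3 0 * M 0 3) + (M 1 1 * M 2 2 - M 2 1 * M 1 2)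
        + (M 1 1 * M 3 3 - M 3 1 * M 1 3) + (M 2 2 * M 3 3 - M 3 2 * M 2 3)) * X ^ 2
      - C M.adjugate.trace * X + C M.det := by
  simp only [Matrix.charpoly, Matrix.trace, Fin.sum_univ_four, diag_apply,
    Matrix.adjugate_fin_succ_eq_det_submatrix, det_four, det_fin_three]
  simp [Fin.sum_univ_four, charmatrix_apply, Fin.succAbove]
  ring

theorem minor_adjugate (M : Matrix (Fin 4) (Fin 4) F) :
    M.adjugate 1 1 * M.adjugate 2 2 - M.adjugate 2 1 * M.adjugate 1 2 =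
      M.det * (M 0 0 * M 3 3 - M 3 0 * M 0 3) := by
  simp only [Matrix.adjugate_fin_succ_eq_det_submatrix, det_four, det_fin_three]
  simp [Fin.sum_univ_four, Fin.succAbove]
  ring

/-- An element of the Suzuki group fixing a nonzero vector has order dividing 4. -/
theorem pow_four_eq_one_of_fix [CharP F 2] {k : ℕ} {g : GL (Fin 4) F} (hg : InSz (2 ^ k) g)
    {v : Fin 4 → F} (hv : v ≠ 0) (h : (g : Matrix (Fin 4) (Fin 4) F) *ᵥ v = v) : g ^ 4 = 1 := by
  have two : (2 : F) = 0 := CharTwo.two_eq_zero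
  set M : Matrix (Fin 4) (Fin 4) F := (g : Matrix (Fin 4) (Fin 4) F) with hM
  have hdet : M.det = 1 := det_eq_one hg.1
  have hadj : M.adjugate = J * Mᵀ * J := by
    rw [← inv_eq hg.1, coe_units_inv, ← hM, Matrix.inv_def, hdet]
    simp
  have htr : M.adjugate.trace = M.trace := by
    rw [hadj, trace_mul_cycle, J_mul_J, Matrix.one_mul, trace_transpose]
  have hmin : M 1 1 * M 2 2 - M 2 1 * M 1 2 = M 0 0 * M 3 3 - M 3 0 * M 0 3 := by
    have := minor_adjugate M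
    rw [hdet, one_mul, hadj] at this
    simp [J, Matrix.mul_apply, Matrix.vecMul, dotProduct, Fin.sum_univ_four] at this
    linear_combination this
  have hd : M.charpoly.eval 1 = 0 := by
    rw [Matrix.eval_charpoly]
    refine exists_mulVec_eq_zero_iff.1 ⟨v, hv, ?_⟩
    rw [sub_mulVec, h]
    simp
  have hs := congrArg Matrix.trace hg.2
  have hs' : (M 0 0 * M 1 1 - M 1 0 * M 0 1) + (M 0 0 * M 2 2 - M 2 0 * M 0 2)
      + (M 1 1 * M 3 3 - M 3 1 * M 1 3) + (M 2 2 * M 3 3 - M 3 2 * M 2 3) =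
      M.trace ^ (2 ^ k) := by
    have e : (M.map fun x => x ^ (2 ^ k)).trace = M.trace ^ (2 ^ k) := by
      rw [← iterateFrobenius_def, Matrix.trace, Matrix.trace, map_sum]
      rfl
    rw [← e, ← hs]
    simp [Matrix.trace, Fin.sum_univ_four, star4, pairOf, hM]
    ring
  rw [charpoly_four, htr, hdet] at hd
  simp only [eval_add, eval_sub, eval_mul, eval_C, eval_pow, eval_X, one_pow, mul_one] at hd
  have ht : M.trace = 0 := by
    have : M.trace ^ (2 ^ k) = 0 := by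
      linear_combination hd - hs' - hmin + (M.trace - 1 - (M 0 0 * M 3 3 - M 3 0 * M 0 3)) * two
    exact eq_zero_of_pow_eq_zero this
  have hcp : M.charpoly = X ^ 4 + 1 := by
    rw [charpoly_four, htr, hdet, ht]
    have hc : (M 0 0 * M 1 1 - M 1 0 * M 0 1) + (M 0 0 * M 2 2 - M 2 0 * M 0 2)
        + (M 0 0 * M 3 3 - M 3 0 * M 0 3) + (M 1 1 * M 2 2 - M 2 1 * M 1 2)
        + (M 1 1 * M 3 3 - M 3 1 * M 1 3) + (M 2 2 * M 3 3 - M 3 2 * M 2 3) = 0 := by
      linear_combination hd + (M.trace - 1) * two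
    rw [hc]
    simp
  have hCH := Matrix.aeval_self_charpoly M
  rw [hcp] at hCH
  simp at hCH
  apply Units.ext
  rw [Units.val_pow_eq_pow_val, Units.val_one, ← hM, eq_neg_of_add_eq_zero_left hCH]
  ext i j
  simp [Matrix.one_apply, CharTwo.neg_eq]

end Cfsg.Agent.Suzuki4
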